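import Cfsg.Agent.H419.EP.Soc
import Cfsg.Agent.H729.EPM.Crude
import Cfsg.Agent.S5830
import Cfsg.Agent.S2119
import Cfsg.Agent.S0813
import Cfsg.Agent.ClassicalGeometry.PSL2Basic

/-!
# S3499, the residual class of `SL₉(q)` (helper729)

* `card_gl_le` : `|GL_n(q)| ≤ |Q| (q - 1)²`;
* `row_sl_nine` : the row of S5830 (the case `L₃(q²)` as a hypothesis).
-/

set_option autoImplicit false

namespace Cfsg.Agent.H729.EPM

open Subgroup Cfsg.Agent.H284 Cfsg.Agent.H419.EP
open scoped MatrixGroups

section card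

variable {Q : Type*} [Group Q] [Finite Q] {F : Type*} [Field F] [Fintype F]

theorem card_ker_le {ι : Type} [Fintype ι] [DecidableEq ι] [Nonempty ι] {S : Subgroup (GL ι F)} (m : Model Q S) :
    Nat.card m.π.ker ≤ Fintype.card F - 1 := by
  classical
  have h1 : ∀ s : m.π.ker, ∃ c : Fˣ, (((s : S) : GL ι F) : Matrix ι ι F) = (c : F) • (1 : Matrix ι ι F) := fun s =>
    (Cfsg.Geo.mem_scalars_iff _).1 ((m.ker s).1 (MonoidHom.mem_ker.1 s.2))
  choose c hc using h1
  have hinj : Function.Injective c := by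
    intro s t hst
    apply Subtype.ext
    apply Subtype.ext
    apply Units.ext
    rw [hc s, hc t, hst]
  have h2 := Nat.card_le_card_of_injective c hinj
  rwa [Nat.card_eq_fintype_card (α := Fˣ), Fintype.card_units] at h2

theorem card_model {ι : Type} [Fintype ι] [DecidableEq ι] [Nonempty ι] {S : Subgroup (GL ι F)} (m : Model Q S) :
    Nat.card S ≤ Nat.card Q * (Fintype.card F - 1) := by
  have h1 := m.π.ker.card_mul_index
  rw [Subgroup.index_ker, MonoidHom.range_eq_top.2 m.surj, Subgroup.card_top] at h1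
  rw [← h1, mul_comm]
  exact Nat.mul_le_mul_left _ (card_ker_le m)

/-- the order of the linear model -/
theorem card_gl_le {n : ℕ} [NeZero n] (m : Model Q (Cfsg.Geo.specialLinear (Fin n) F)) :
    Nat.card (GL (Fin n) F) ≤ Nat.card Q * (Fintype.card F - 1) ^ 2 := by
  have h1 := (Cfsg.Geo.specialLinear (Fin n) F).card_mul_index
  have h2 : (Cfsg.Geo.specialLinear (Fin n) F).index ≤ Fintype.card F - 1 := by
    have h3 : (Cfsg.Geo.specialLinear (Fin n) F).index =
        Nat.card (Matrix.GeneralLinearGroup.det : GL (Fin n) F →* Fˣ).range := Subgroup.index_ker _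
    rw [h3]
    classical
    have h4 := Nat.card_le_card_of_injective (Subtype.val : (Matrix.GeneralLinearGroup.det : GL (Fin n) F →* Fˣ).range → Fˣ)
      Subtype.val_injective
    rwa [Nat.card_eq_fintype_card (α := Fˣ), Fintype.card_units] at h4
  rw [← h1, pow_two, ← mul_assoc]
  exact Nat.mul_le_mul (card_model m) h2

/-- a lower bound for the order of `GL_n(q)` -/
theorem le_card_gl {n : ℕ} : (Fintype.card F ^ (n - 1) * (Fintype.card F - 1)) ^ n ≤ Nat.card (GL (Fin n) F) := by
  rw [Matrix.card_GL_field]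
  calc (Fintype.card F ^ (n - 1) * (Fintype.card F - 1)) ^ n =
        ∏ _i : Fin n, (Fintype.card F ^ (n - 1) * (Fintype.card F - 1)) := by
        rw [Finset.prod_const, Finset.card_univ, Fintype.card_fin]
    _ ≤ ∏ i : Fin n, (Fintype.card F ^ n - Fintype.card F ^ (i : ℕ)) := by
      apply Finset.prod_le_prod'
      intro i _
      have hn : n = (n - 1) + 1 := by have := i.2; omega
      have h1 : Fintype.card F ^ (i : ℕ) ≤ Fintype.card F ^ (n - 1) :=
        Nat.pow_le_pow_right Fintype.card_pos (by have := i.2; omega)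
      have h2 : Fintype.card F ^ n = Fintype.card F ^ (n - 1) * Fintype.card F := by
        conv_lhs => rw [hn]
        rw [pow_succ]
      rw [h2, Nat.mul_sub, mul_one]
      omega

end card

section soc

variable {Q : Type*} [Group Q] {A : Subgroup Q}

theorem card_dvd_of_soc {L : Type*} [Group L] (h : HasSoc A L) : Nat.card A ∣ Nat.card (MulAut L) := by
  obtain ⟨f, hf⟩ := h.exists_hom
  exact Subgroup.card_dvd_of_injective f hf

theorem card_aut_alt {n : ℕ} (hn : 4 ≤ n) (h6 : n ≠ 6) : Nat.card (MulAut (alternatingGroup (Fin n))) = n.factorial := by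
  rw [← Nat.card_congr (Equiv.ofBijective _ (Cfsg.Agent.S2119.result n hn h6)), Nat.card_eq_fintype_card,
    Fintype.card_perm, Fintype.card_fin]

theorem card_aut_psl_two {p : ℕ} [Fact p.Prime] (hp : 4 ≤ p) :
    Nat.card (MulAut (Matrix.ProjectiveSpecialLinearGroup (Fin 2) (ZMod p))) * (p - 1) =
      (p ^ 2 - 1) * (p ^ 2 - p) := by
  have hF : Fintype.card (ZMod p) = p ^ 1 := by rw [ZMod.card, pow_one]
  have h1 := Cfsg.Agent.S0813.result (F := ZMod p) p 1 le_rfl hF 2 le_rfl (fun _ => by rw [pow_one]; exact hp)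
  have h2 := Cfsg.Agent.ClassicalGeometry.PSL2Basic.card_PGL_mul (Fin 2) (ZMod p)
  rw [ZMod.card] at h2
  rw [h1, if_pos rfl, one_mul, one_mul, h2, Matrix.card_GL_field, ZMod.card, Fin.prod_univ_two]
  simp

theorem card_aut_psl_two_nineteen :
    Nat.card (MulAut (Matrix.ProjectiveSpecialLinearGroup (Fin 2) (ZMod 19))) = 6840 := by
  have : Fact (Nat.Prime 19) := ⟨by norm_num⟩
  have h := card_aut_psl_two (p := 19) (by norm_num)
  rw [show (19 ^ 2 - 1) * (19 ^ 2 - 19) = 123120 by norm_num, show 19 - 1 = 18 by norm_num] at h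
  omega

end soc

theorem omega_5040 : ArithmeticFunction.cardFactors 5040 = 8 := by
  rw [ArithmeticFunction.cardFactors_apply]
  norm_num [Nat.primeFactorsList]

theorem omega_6840 : ArithmeticFunction.cardFactors 6840 = 7 := by
  rw [ArithmeticFunction.cardFactors_apply]
  norm_num [Nat.primeFactorsList]

/-- **The row of S5830** -/
theorem row_sl_nine {Q : Type*} [Group Q] [Finite Q] {A : Subgroup Q} {Γ : Subgroup (MulAut Q)} (h : EPT A Γ)
    {F : Type*} [Field F] [Fintype F] (m : Model Q (Cfsg.Geo.specialLinear (Fin 9) F))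
    (hres : Cfsg.Geo.InLinearResidualClass (m.hat A))
    (hown : ∀ (K : Type) [Field K] [Fintype K], Fintype.card K = Fintype.card F ^ 2 →
      HasSoc A (Matrix.ProjectiveSpecialLinearGroup (Fin 3) K) → False) : False := by
  obtain ⟨P, hP, h1⟩ := Cfsg.Agent.S5830.result (m.hat A) (m.isMaximalIn h.max) hres
  have hS := hasSoc_of_core m hP
  have hgl := (le_card_gl (F := F) (n := 9)).trans (card_gl_le m)
  rcases h1 with ⟨⟨e⟩, hq⟩ | ⟨⟨e⟩, hp, hq⟩ | ⟨K, _, _, hK, ⟨e⟩⟩
  · have hd := card_dvd_of_soc (hS.congr e)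
    rw [card_aut_alt (by norm_num) (by norm_num)] at hd
    have h2 := crude h (N := 5040) (k := 7) (by norm_num) hd (by rw [omega_5040])
    have h3 := hgl.trans (Nat.mul_le_mul_right _ h2)
    rw [hq] at h3
    norm_num at h3
  · have hd := card_dvd_of_soc (hS.congr e)
    rw [card_aut_psl_two_nineteen] at hd
    have h2 := crude h (N := 6840) (k := 6) (by norm_num) hd (by rw [omega_6840])
    have h3 := hgl.trans (Nat.mul_le_mul_right _ h2)
    set q := Fintype.card F with hqdef
    have hq5 : 5 ≤ q := by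
      have h4 := hp.two_le
      have h5 : q ≠ 4 := by
        intro h5
        rw [h5] at hp
        exact absurd hp (by decide)
      omega
    obtain ⟨t, ht⟩ : ∃ t, q = t + 1 := ⟨q - 1, by omega⟩
    have ht4 : 4 ≤ t := by omega
    have e1 : q - 1 = t := by omega
    rw [e1, show 9 - 1 = 8 from rfl] at h3
    have h4 : (q ^ 8 * t) ^ 9 = (q ^ 72 * t ^ 7) * t ^ 2 := by ring
    rw [h4] at h3
    have h5 := Nat.le_of_mul_le_mul_right h3 (by positivity)
    have h6 : 5 ^ 72 * 4 ^ 7 ≤ q ^ 72 * t ^ 7 :=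
      Nat.mul_le_mul (Nat.pow_le_pow_left hq5 72) (Nat.pow_le_pow_left ht4 7)
    have h7 := h6.trans h5
    norm_num at h7
  · exact hown K hK (hS.congr e)

end Cfsg.Agent.H729.EPM
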